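import Cfsg.Agent.H816.IMM
import Cfsg.Agent.H33.RD
import Cfsg.Agent.MonsterX.MainPack
import Cfsg.Agent.MonsterX.InstanceFinal

/-!
# S4844: the row `M` of `FactSq` (helper849)

* `im_pow_of_quotients` : a class of size divisible by `p ^ a` such that no quotient of two different members is a
  `p`-element gives an irreducible character of degree divisible by `p ^ a`;
* `im_pow_transp` : the same for a class of involutions such that the products have order `< p`;
* `im_m_seven` : the Monster has an irreducible character of degree divisible by `7 ^ 4` (6-transpositions);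
* `sq_m` : the row.
-/

set_option autoImplicit false

namespace Cfsg.Agent.H849.Sq

open Cfsg Cfsg.Agent.H33 Cfsg.Agent.H816.IMM Cfsg.Agent.MonsterX

universe u

section tools

variable {G : Type u} [Group G] [Finite G] {p : ℕ} [hp : Fact p.Prime]

/-- `p ^ a` divides the class size of `s` and no quotient of two different conjugates of `s` is a
`p`-element. -/
theorem im_pow_of_quotients {s : G} {a : ℕ}
    (hd : p ^ a ∣ (Subgroup.centralizer ({s} : Set G)).index)
    (hs : ∀ g h : G, IsConj s g → IsConj s h → (∃ k : ℕ, orderOf (g * h⁻¹) = p ^ k) → g = h) :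
    IM (p ^ a) G := by
  obtain ⟨M, hM⟩ := Cfsg.Agent.Blocks.Knorr.exists_isPModular p
  obtain ⟨P⟩ : Nonempty (Sylow p G) := inferInstance
  have h1 : ∃ χ : IrrCharacter G, ¬ MemLocalIdeal M (centralChar (χ : G → ℂ) s) := by
    refine exists_centralChar hM s P ?_
    intro g h hg hh hP
    have h1 := hs g h hg hh (by
      obtain ⟨k, hk⟩ := IsPGroup.iff_orderOf.1 P.isPGroup' ⟨_, hP⟩
      exact ⟨k, by rw [← hk, Subgroup.orderOf_mk]⟩)
    rw [h1, mul_inv_cancel]
  obtain ⟨χ, hχ⟩ := le_of_centralChar hM h1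
  refine ⟨χ, ?_⟩
  have h2 : charDegree (χ : G → ℂ) ≠ 0 := (Cfsg.Agent.Blocks.Basic.charDegree_pos χ.2).ne'
  have h3 : a ≤ (Subgroup.centralizer ({s} : Set G)).index.factorization p :=
    (hp.out.pow_dvd_iff_le_factorization Subgroup.index_ne_zero_of_finite).1 hd
  exact (hp.out.pow_dvd_iff_le_factorization h2).2 (h3.trans hχ)

/-- a class of involutions such that the products of two members have order `≤ m < p` -/
theorem im_pow_transp {t : G} {m a : ℕ} (ht : t * t = 1)
    (h : ∀ g : G, orderOf (t * (g * t * g⁻¹)) ≤ m) (hm : m < p)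
    (hd : p ^ a ∣ (Subgroup.centralizer ({t} : Set G)).index) : IM (p ^ a) G := by
  refine im_pow_of_quotients hd ?_
  rintro x y hx hy ⟨k, hk⟩
  obtain ⟨g, rfl⟩ := isConj_iff.1 hx
  obtain ⟨l, rfl⟩ := isConj_iff.1 hy
  have e1 : (l * t * l⁻¹)⁻¹ = l * t * l⁻¹ := by
    rw [inv_eq_iff_mul_eq_one]
    calc l * t * l⁻¹ * (l * t * l⁻¹) = l * (t * t) * l⁻¹ := by group
      _ = 1 := by rw [ht]; group
  have e2 : g * t * g⁻¹ * (l * t * l⁻¹)⁻¹ = g * (t * ((g⁻¹ * l) * t * (g⁻¹ * l)⁻¹)) * g⁻¹ := by
    rw [e1]; group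
  have e3 : orderOf (t * ((g⁻¹ * l) * t * (g⁻¹ * l)⁻¹)) = p ^ k := by
    rw [← hk, e2]
    have h1 := (MulAut.conj g).orderOf_eq (t * ((g⁻¹ * l) * t * (g⁻¹ * l)⁻¹))
    rw [MulAut.conj_apply] at h1
    exact h1.symm
  have h2 := h (g⁻¹ * l)
  rw [e3] at h2
  have h3 : k = 0 := by
    by_contra h0
    have h4 : p ≤ p ^ k := Nat.le_self_pow h0 p
    omega
  rw [h3, pow_zero, orderOf_eq_one_iff] at e3
  have h5 : g * t * g⁻¹ * (l * t * l⁻¹)⁻¹ = 1 := by rw [e2, e3]; group
  exact mul_inv_eq_one.1 h5

end tools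

/-- **The Monster has an irreducible character of degree divisible by `7 ^ 4`.** -/
theorem im_m_seven {S : Type u} [Group S] [Finite S] (h : Spor.IsoM S) : IM (7 ^ 4) S := by
  obtain ⟨e⟩ := exists_equiv h
  refine IM.of_equiv e ?_
  have hc := card_eq h
  rw [Nat.card_congr e.toEquiv] at hc
  have : Finite ↥InstData.M.G := Nat.finite_of_card_ne_zero (by rw [hc]; norm_num)
  have h7 : Fact (Nat.Prime 7) := ⟨by norm_num⟩
  set t := MainPack.tG KDone.mGroup KDone.mRep with ht
  refine im_pow_transp (t := t) (m := 6) (Subtype.ext KDone.mRep.t₀_sq) (fun g => ?_) (by norm_num) ?_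
  · exact MainPack.six KDone.mGroup KDone.mRep KDone.mLat InstanceFinal.mOrbit Instance.mTrans
      InstanceFinal.mExtra.order_le g
  · have h1 := MainPack.card_cent_t KDone.mGroup KDone.mRep KDone.mLat InstanceFinal.mOrbit Instance.mTrans
    have h2 := (Subgroup.centralizer ({t} : Set ↥InstData.M.G)).card_mul_index
    rw [ht, h1, hc] at h2
    have h3 : (Subgroup.centralizer ({t} : Set ↥InstData.M.G)).index = 97239461142009186000 := by
      rw [ht]
      omega
    rw [h3]
    norm_num

/-- **The row `M`.** -/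
theorem sq_m {S : Type u} [Group S] [Finite S] (h : Cfsg.Spor.IsoM S) (_hs : IsSimpleGroup S) {p : ℕ}
    [hp : Fact p.Prime] (hp2 : p ≠ 2) (hd : p ^ 2 ∣ Nat.card S) : Cfsg.Agent.H33.IM (p ^ 2) S := by
  have h1 := prime_mem hp.out (by rw [← card_eq h]; exact (dvd_pow_self p two_ne_zero).trans hd)
  rw [card_eq h] at hd
  simp only [List.mem_cons, List.not_mem_nil, or_false] at h1
  rcases h1 with rfl | rfl | rfl | rfl | rfl | rfl | rfl | rfl | rfl | rfl | rfl | rfl | rfl | rfl | rfl
  · exact absurd rfl hp2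
  · exact im_dvd (n := 36173193327999) (by norm_num) (by simpa using exists_chi_36173193327999 h)
  · exact im_dvd (n := 251098487132187500) (by norm_num) (by simpa using exists_chi_251098487132187500 h)
  · obtain ⟨χ, hχ⟩ := im_m_seven h
    exact ⟨χ, (by norm_num : (7 ^ 2 : ℕ) ∣ 7 ^ 4).trans hχ⟩
  · exact im_dvd (n := 49609712911192813665) (by norm_num) (by simpa using exists_chi_49609712911192813665 h)
  · exact im_dvd (n := 842609326) (by norm_num) (by simpa using exists_chi_842609326 h)
  all_goals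
    exfalso
    revert hd
    norm_num

end Cfsg.Agent.H849.Sq
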